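import Groth.Agent.TautSh.K396.PushNum
import Mathlib.LinearAlgebra.Multilinear.Basic

/-!
# Growth of `α_r` with respect to the polarisations `(ρ^*M)^{N+t} ⊗ D`

* `alpha_upper`: `α_r(P_C) ≤ B (t + 1)^{r-1}` if `dim ρ(Supp C) < r`;
* `alpha_lower`: `t^r ≤ α_r(P_Q)` if `ρ` is quasi-finite at a point `x` of `Supp Q` with `dim closure {x} = r`.
-/

set_option autoImplicit false
universe u
open CategoryTheory CategoryTheory.Limits AlgebraicGeometry Polynomial

namespace K396.Bd

open Groth.Agent Groth.Agent.Ega2 Groth.Agent.Fga.PicMon Groth.Agent.Grpsch.PicGrp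
open K909.InterML K716.Td K396.Push K396.Taut ShStab StabCat K848.HB

section expand

variable (k : Type u) [Field k] (X : Scheme.{u}) [X.Over (Spec (CommRingCat.of k))]
  [IsProper (X ↘ Spec (CommRingCat.of k))] (d : ℕ) (hd : topologicalKrullDim X ≤ d) (F : X.Modules) (hF : Coh.IsCoh F)

include hd hF

/-- `((a^t b)^r · F) = Σ_s t^|s| (a^s b^{r-s} · F)`. -/
theorem inter_expand {r : ℕ} (hr : topologicalKrullDim (CohB1.support F) ≤ r) (a b : Pic X) (t : ℕ) :
    inter k X d F (fun _ : Fin r => a ^ t * b) =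
      ∑ s : Finset (Fin r), (t : ℤ) ^ s.card * inter k X d F (s.piecewise (fun _ => a) (fun _ => b)) := by
  classical
  have h1 := ml_apply k X d hd F hF hr (fun _ : Fin r => ((t : ℤ) • Additive.ofMul a + Additive.ofMul b))
  have e1 : (fun i : Fin r => ((fun _ : Fin r => ((t : ℤ) • Additive.ofMul a + Additive.ofMul b)) i).toMul) =
      fun _ : Fin r => a ^ t * b := by
    funext i
    simp
  rw [e1] at h1
  rw [← h1]
  have h2 := (ml k X d hd F hF hr).map_add_univ (fun _ : Fin r => ((t : ℤ) • Additive.ofMul a)) (fun _ => Additive.ofMul b)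
  have e2 : ((fun _ : Fin r => ((t : ℤ) • Additive.ofMul a)) + (fun _ : Fin r => Additive.ofMul b)) =
      fun _ : Fin r => ((t : ℤ) • Additive.ofMul a + Additive.ofMul b) := rfl
  rw [e2] at h2
  rw [h2]
  refine Finset.sum_congr rfl fun s _ => ?_
  have h3 := (ml k X d hd F hF hr).map_piecewise_smul (fun _ => (t : ℤ))
    (s.piecewise (fun _ : Fin r => Additive.ofMul a) (fun _ => Additive.ofMul b)) s
  have e3 : s.piecewise (fun i : Fin r => (t : ℤ) • (s.piecewise (fun _ : Fin r => Additive.ofMul a) (fun _ => Additive.ofMul b)) i)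
      (s.piecewise (fun _ : Fin r => Additive.ofMul a) (fun _ => Additive.ofMul b)) =
      s.piecewise (fun _ : Fin r => (t : ℤ) • Additive.ofMul a) (fun _ => Additive.ofMul b) := by
    funext i
    by_cases hi : i ∈ s
    · simp [hi]
    · simp [hi]
  rw [e3] at h3
  rw [h3, Finset.prod_const, smul_eq_mul, ml_apply]
  congr 2

end expand

section bounds

variable (k : Type u) [Field k] {H Y : Scheme.{u}} [H.Over (Spec (CommRingCat.of k))] [IsProper (H ↘ Spec (CommRingCat.of k))]
variable (gY : Y ⟶ Spec (CommRingCat.of k)) [IsProper gY] (ρ : H ⟶ Y) (hρ : ρ ≫ gY = H ↘ Spec (CommRingCat.of k))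
  (M : Y.Modules) (hM : CohB1.IsAmple M) (D : H.Modules) (hD : PicF.IsInvertible D) (N : ℕ)
  (hA : CohB1.IsAmple (CohB1.tensorMod (CohB1.tensorPow ((Scheme.Modules.pullback ρ).obj M) N) D))

omit [IsProper (H ↘ Spec (CommRingCat.of k))] [H.Over (Spec (CommRingCat.of k))] in
theorem isInv_pol (hM : PicF.IsInvertible M) (hD : PicF.IsInvertible D) (n : ℕ) :
    PicF.IsInvertible (CohB1.tensorMod (CohB1.tensorPow ((Scheme.Modules.pullback ρ).obj M) n) D) :=
  Fdesc.LocGen.isInvertible_tensorMod (Fdesc.LocGen.isInvertible_tensorPow (Fdesc.LocGen.isInvertible_pullback ρ hM) n) hD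

omit [IsProper (H ↘ Spec (CommRingCat.of k))] [H.Over (Spec (CommRingCat.of k))] in
theorem mk_pol (hM : PicF.IsInvertible M) (hD : PicF.IsInvertible D) (N t : ℕ) :
    mk _ (isInv_pol ρ M D hM hD (N + t)) = (pull ρ (mk M hM)) ^ t * mk _ (isInv_pol ρ M D hM hD N) := by
  have h1 := Fdesc.LocGen.isInvertible_pullback ρ hM
  have h2 : ∀ n, mk _ (isInv_pol ρ M D hM hD n) = (pull ρ (mk M hM)) ^ n * mk D hD := by
    intro n
    rw [pull_mk ρ hM, ← mk_tensorPow h1, mk_mul_mk]
  rw [h2, h2, pow_add, ← mul_assoc, mul_comm (pull ρ (mk M hM) ^ N)]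

include hρ hM hD hA

theorem alpha_upper (r : ℕ) (C : H.Modules) (hC : Coh.IsCoh C) (h1 : topologicalKrullDim (CohB1.support C) ≤ r)
    (h2 : topologicalKrullDim (closure (ρ '' CohB1.support C)) < r) :
    ∃ B : ℚ, ∀ (t : ℕ) (P : ℚ[X]),
      ShStab.IsHilbPoly k H (CohB1.tensorMod (CohB1.tensorPow ((Scheme.Modules.pullback ρ).obj M) (N + t)) D) C P →
      StabCat.alpha r P ≤ B * (t + 1) ^ (r - 1) := by
  classical
  letI : Y.Over (Spec (CommRingCat.of k)) := ⟨gY⟩
  have hY : Y ↘ Spec (CommRingCat.of k) = gY := rfl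
  haveI : IsProper (Y ↘ Spec (CommRingCat.of k)) := by rw [hY]; infer_instance
  have nH : IsNoetherian H := Fga.IntAdd.isNoetherian k H
  obtain ⟨d, hd⟩ := EtpbcA.CdFinDim.exists_dim_le (H ↘ Spec (CommRingCat.of k))
  -- the top coefficient
  have hzero : inter k H d C (fun _ : Fin r => pull ρ (mk M hM.1)) = 0 := by
    obtain ⟨S, n, b, hS, -, -, -, hb, hsum⟩ := top_formula k ρ hρ hM d hd r C hC h1
    rw [hsum]
    refine Finset.sum_eq_zero fun y hy => ?_
    rw [hb y hy, mul_zero]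
    refine lt_of_le_of_lt (Fga.DimLt.topologicalKrullDim_mono (closure_mono (Set.image_mono ?_))) h2
    exact closure_minimal (Set.singleton_subset_iff.mpr ((hS y).mp hy).1) (Ega3B.Devissage.isClosed_support hC)
  refine ⟨∑ s : Finset (Fin r), |(inter k H d C (s.piecewise (fun _ => pull ρ (mk M hM.1))
    (fun _ => mk _ (isInv_pol ρ M D hM.1 hD N))) : ℚ)|, fun t P hP => ?_⟩
  rw [eq_hp k hP, alpha_eq_inter k d hd (isInv_pol ρ M D hM.1 hD (N + t)) hC h1, mk_pol ρ M D hM.1 hD N t]
  rw [inter_expand k H d hd C hC h1, Int.cast_sum, Finset.sum_mul]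
  refine Finset.sum_le_sum fun s _ => ?_
  by_cases hs : s = Finset.univ
  · subst hs
    rw [Finset.piecewise_univ, hzero]
    simp
  · have hcard : s.card ≤ r - 1 := by
      have h4 : s.card < r := by
        have h5 := Finset.card_lt_card (Finset.ssubset_univ_iff.mpr hs)
        simpa using h5
      omega
    push_cast
    rw [mul_comm]
    refine mul_le_mul (le_abs_self _) ?_ (by positivity) (abs_nonneg _)
    have h3 : (t : ℚ) ^ s.card ≤ ((t : ℚ) + 1) ^ s.card := pow_le_pow_left₀ (by positivity) (by linarith) _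
    exact h3.trans (pow_le_pow_right₀ (by linarith [(Nat.cast_nonneg t : (0 : ℚ) ≤ t)]) hcard)

theorem alpha_lower (r : ℕ) (Q : H.Modules) (hQ : Coh.IsCoh Q) (h1 : topologicalKrullDim (CohB1.support Q) ≤ r)
    (x : H) (hx : x ∈ CohB1.support Q) (hxr : topologicalKrullDim (closure {x} : Set H) = r)
    (hq : ρ.QuasiFiniteAt x) (t : ℕ) (P : ℚ[X])
    (hP : ShStab.IsHilbPoly k H (CohB1.tensorMod (CohB1.tensorPow ((Scheme.Modules.pullback ρ).obj M) (N + t)) D) Q P) :
    (t : ℚ) ^ r ≤ StabCat.alpha r P := by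
  classical
  letI : Y.Over (Spec (CommRingCat.of k)) := ⟨gY⟩
  have hY : Y ↘ Spec (CommRingCat.of k) = gY := rfl
  haveI : IsProper (Y ↘ Spec (CommRingCat.of k)) := by rw [hY]; infer_instance
  have nH : IsNoetherian H := Fga.IntAdd.isNoetherian k H
  obtain ⟨d, hd⟩ := EtpbcA.CdFinDim.exists_dim_le (H ↘ Spec (CommRingCat.of k))
  have hρp : IsProper ρ := isProper_hom k ρ hρ
  -- transcendence degree zero at `x`
  have htd : td ρ x = 0 := by
    obtain ⟨n, hn, hn'⟩ := CycB.RelDim.exists_dim_closure_fiber ρ (ρ x) (ρ.asFiber x)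
    rw [Scheme.Hom.fiberι_asFiber] at hn
    have hcl : IsClosed ({ρ.asFiber x} : Set _) := hq.isClopen_singleton_asFiber.1
    rw [hcl.closure_eq] at hn'
    have h0 : topologicalKrullDim ({ρ.asFiber x} : Set (ρ.fiber (ρ x))) ≤ 0 :=
      topologicalKrullDim_zero_of_discreteTopology _
    rw [hn'] at h0
    rw [td_eq_of hn]
    exact Nat.le_zero.mp (by exact_mod_cast h0)
  -- the top coefficient
  have hpos : 1 ≤ inter k H d Q (fun _ : Fin r => pull ρ (mk M hM.1)) := by
    obtain ⟨S, n, b, hS, hn, hb0, hb1, -, hsum⟩ := top_formula k ρ hρ hM d hd r Q hQ h1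
    have hxS : x ∈ S := (hS x).mpr ⟨hx, hxr⟩
    rw [hsum]
    refine le_trans ?_ (Finset.single_le_sum (fun y hy => mul_nonneg (Int.natCast_nonneg _) (hb0 y hy)) hxS)
    have h3 := hn x hxS
    have h4 := hb1 x hxS htd
    have h5 : (0 : ℤ) < n x := by exact_mod_cast h3
    nlinarith
  rw [eq_hp k hP, alpha_eq_inter k d hd (isInv_pol ρ M D hM.1 hD (N + t)) hQ h1, mk_pol ρ M D hM.1 hD N t]
  rw [inter_expand k H d hd Q hQ h1]
  have h3 : (t : ℤ) ^ r ≤ ∑ s : Finset (Fin r), (t : ℤ) ^ s.card * inter k H d Q (s.piecewise (fun _ => pull ρ (mk M hM.1))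
      (fun _ => mk _ (isInv_pol ρ M D hM.1 hD N))) := by
    refine le_trans ?_ (Finset.single_le_sum (f := fun s : Finset (Fin r) => (t : ℤ) ^ s.card * inter k H d Q
      (s.piecewise (fun _ => pull ρ (mk M hM.1)) (fun _ => mk _ (isInv_pol ρ M D hM.1 hD N))))
      (fun s _ => mul_nonneg (by positivity) ?_) (Finset.mem_univ Finset.univ))
    · simp only [Finset.piecewise_univ, Finset.card_univ, Fintype.card_fin]
      exact le_mul_of_one_le_right (by positivity) hpos
    · refine nonneg_mix k ρ hρ hM hA d hd r Q hQ h1 _ fun j => ?_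
      by_cases hj : j ∈ s
      · left
        rw [Finset.piecewise_eq_of_mem _ _ _ hj]
      · right
        rw [Finset.piecewise_eq_of_notMem _ _ _ hj]
  exact_mod_cast h3

end bounds

end K396.Bd
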