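import Groth.Agent.ShStab.K848.Pos
import Groth.Agent.Vanish.K909.InterML
import Groth.Agent.VBCurve.K704.InvHom
import Groth.Agent.CurvesC.UnitCoh

/-!
# Second coefficients of Hilbert polynomials as intersection numbers

* `alpha_eq_inter`: `α_r(P_F) = (A^r · F)` for `dim Supp F ≤ r`;
* `alpha_sub_tensor`: `α_r(P_F) - α_r(P_{L ⊗ F}) = (L⁻¹ · A^r · F)` for `dim Supp F ≤ r + 1`;
* `alpha_square`: `2 α_r(G) = 2 α_r(G ⊗ L) + α_r(coker m)` for `m : L ⊗ L ⟶ O` nonzero on an integral scheme of dimension `r + 1`.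
-/

set_option autoImplicit false
universe u
open CategoryTheory CategoryTheory.Limits AlgebraicGeometry Polynomial

namespace K396.Taut

open Groth.Agent Groth.Agent.Fga.PicMon Groth.Agent.Grpsch.PicGrp Groth.Agent.Pic13.H970.IntForm K909.InterML
open ShStab StabCat K848.HB K848.Poly

section proper

variable (k : Type u) [Field k] {X : Scheme.{u}} [X.Over (Spec (CommRingCat.of k))]
  [IsProper (X ↘ Spec (CommRingCat.of k))]

theorem nabla_eq_inter (d : ℕ) (hd : topologicalKrullDim X ≤ d) {A : X.Modules} (hA : PicF.IsInvertible A)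
    (r : ℕ) {F : X.Modules} (hF : Coh.IsCoh F) :
    (nabla^[r] (hp k A F)).eval 0 = (inter k X d F (fun _ : Fin r => mk A hA) : ℚ) := by
  rw [inter_eq_I]
  have e : (fun _ : Fin r => (mk A hA)⁻¹) = fun _ => mk (dual A) (isInvertible_dual hA) := rfl
  rw [e, ← Groth.Agent.Pic13.H970.IntForm.intNum_eq k X d F (fun _ : Fin r => dual A) (fun _ => isInvertible_dual hA)]
  exact (K848.HB.intNum_eq k hA (isInvertible_dual hA) ⟨@asIso _ _ _ _ (ev A) (isIso_ev hA)⟩ d hd r F hF).symm

/-- The coefficient `α_r` of the Hilbert polynomial is an intersection number. -/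
theorem alpha_eq_inter (d : ℕ) (hd : topologicalKrullDim X ≤ d) {A : X.Modules} (hA : PicF.IsInvertible A)
    {r : ℕ} {F : X.Modules} (hF : Coh.IsCoh F) (hr : topologicalKrullDim (CohB1.support F) ≤ r) :
    alpha r (hp k A F) = (inter k X d F (fun _ : Fin r => mk A hA) : ℚ) := by
  rw [← nabla_eq_inter k d hd hA r hF, eval_nabla_iter (natDegree_hp_le k hA hF hr)]

omit [IsProper (X ↘ Spec (CommRingCat.of k))] in
theorem inter_cons_inv_mk (d : ℕ) (F : X.Modules) {L : X.Modules} (hL : PicF.IsInvertible L) {r : ℕ} (c : Fin r → Pic X) :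
    inter k X d F (Fin.cons (mk L hL)⁻¹ c : Fin (r + 1) → Pic X) =
      inter k X d F c - inter k X d (CohB1.tensorMod L F) c := by
  rw [inter_cons, inv_inv, I_cons_mk]
  rfl

theorem natDegree_le_of_alpha {r : ℕ} {P : ℚ[X]} (h1 : P.natDegree ≤ r + 1) (h2 : alpha (r + 1) P = 0) :
    P.natDegree ≤ r := by
  have h3 : P.coeff (r + 1) = 0 := by
    rw [alpha, mul_eq_zero] at h2
    rcases h2 with h | h
    · exact absurd h (by exact_mod_cast (Nat.factorial_ne_zero (r + 1)))
    · exact h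
  rw [natDegree_le_iff_coeff_eq_zero]
  intro N hN
  rcases (Nat.succ_le_of_lt hN).lt_or_eq with h4 | h4
  · exact coeff_eq_zero_of_natDegree_lt (lt_of_le_of_lt h1 h4)
  · rw [← h4]; exact h3

omit [IsProper (X ↘ Spec (CommRingCat.of k))] [X.Over (Spec (CommRingCat.of k))] in
theorem isCoh_tens {L F : X.Modules} (hL : PicF.IsInvertible L) (hF : Coh.IsCoh F) : Coh.IsCoh (CohB1.tensorMod L F) :=
  Sga67.CohBasic.isCoh_of_iso (Ega2.Tens.swap F L) (Fga.TwistCoh.isCoh_tensor hF hL)

omit [IsProper (X ↘ Spec (CommRingCat.of k))] [X.Over (Spec (CommRingCat.of k))] in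
theorem support_tens {L F : X.Modules} (hL : PicF.IsInvertible L) :
    CohB1.support (CohB1.tensorMod L F) = CohB1.support F := by
  refine Fga.PosMain.support_tensor X hL (isInvertible_dual hL) ?_ F
  rw [← mc_tensor, ← mc_one]
  exact mc_eq (@asIso _ _ _ _ (ev L) (isIso_ev hL))

/-- `α_r(P_F) - α_r(P_{L ⊗ F}) = (L⁻¹ · A^r · F)`. -/
theorem alpha_sub_tensor (d : ℕ) (hd : topologicalKrullDim X ≤ d) {A : X.Modules} (hA : PicF.IsInvertible A)
    {r : ℕ} {F : X.Modules} (hF : Coh.IsCoh F) (hr : topologicalKrullDim (CohB1.support F) ≤ (r + 1 : ℕ))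
    {L : X.Modules} (hL : PicF.IsInvertible L) :
    alpha r (hp k A F) - alpha r (hp k A (CohB1.tensorMod L F)) =
      (inter k X d F (Fin.cons (mk L hL)⁻¹ (fun _ : Fin r => mk A hA) : Fin (r + 1) → Pic X) : ℚ) := by
  have hLF := isCoh_tens hL hF
  have hr' : topologicalKrullDim (CohB1.support (CohB1.tensorMod L F)) ≤ (r + 1 : ℕ) := by
    rw [support_tens hL]; exact hr
  have hz : inter k X d F (Fin.cons (mk L hL)⁻¹ (fun _ : Fin (r + 1) => mk A hA) : Fin (r + 2) → Pic X) = 0 := by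
    refine inter_eq_zero k X d hd F hF _ (lt_of_le_of_lt hr ?_)
    exact_mod_cast Nat.lt_succ_self (r + 1)
  have h1 : alpha (r + 1) (hp k A F - hp k A (CohB1.tensorMod L F)) = 0 := by
    rw [alpha_sub, alpha_eq_inter k d hd hA hF hr, alpha_eq_inter k d hd hA hLF hr', ← Int.cast_sub,
      ← inter_cons_inv_mk k d F hL, hz, Int.cast_zero]
  have h2 : (hp k A F - hp k A (CohB1.tensorMod L F)).natDegree ≤ r :=
    natDegree_le_of_alpha ((natDegree_sub_le _ _).trans
      (max_le (natDegree_hp_le k hA hF hr) (natDegree_hp_le k hA hLF hr'))) h1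
  rw [← alpha_sub, ← eval_nabla_iter h2 0, nabla_iter_sub, eval_sub, nabla_eq_inter k d hd hA r hF,
    nabla_eq_inter k d hd hA r hLF, inter_cons_inv_mk]
  push_cast
  rfl

theorem inter_unit (d : ℕ) (hd : topologicalKrullDim X ≤ d) {r : ℕ} (c : Fin r → Pic X)
    (hr : topologicalKrullDim X ≤ r) {G : X.Modules} (hG : PicF.IsInvertible G) :
    inter k X d G c = inter k X d (Coh.structureModule X) c := by
  have := Fga.IntAdd.isNoetherian k X
  have hO : Coh.IsCoh (Coh.structureModule X) := CurvesC.UnitCoh.isCoh_unit X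
  have h1 := inter_cons_inv_mk k d (Coh.structureModule X) hG c
  have hs : topologicalKrullDim (CohB1.support (Coh.structureModule X)) < ((r + 1 : ℕ) : WithBot ℕ∞) := by
    refine lt_of_le_of_lt ((topologicalKrullDim_subspace_le _ _).trans hr) ?_
    exact_mod_cast Nat.lt_succ_self r
  rw [inter_eq_zero k X d hd _ hO _ hs] at h1
  rw [← inter_iso k X d (CohB1.tensorMod G (Coh.structureModule X)) (Ega2.Tens.runit G) c]
  linarith

end proper

theorem alpha_square (k : Type u) [Field k] {H : Scheme.{u}} [H.Over (Spec (CommRingCat.of k))]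
    [IsProper (H ↘ Spec (CommRingCat.of k))] [IsIntegral H] (r : ℕ) (hdim : topologicalKrullDim H = (r + 1 : ℕ))
    (A : H.Modules) (hA : CohB1.IsAmple A)
    (L : H.Modules) (hL : PicF.IsInvertible L) (m : CohB1.tensorMod L L ⟶ Coh.structureModule H) (hm : m ≠ 0)
    (G : H.Modules) (hG : PicF.IsInvertible G) (P1 P2 P3 : ℚ[X])
    (h1 : ShStab.IsHilbPoly k H A G P1) (h2 : ShStab.IsHilbPoly k H A (CohB1.tensorMod G L) P2)
    (h3 : ShStab.IsHilbPoly k H A (cokernel m) P3) :
    2 * StabCat.alpha r P1 = 2 * StabCat.alpha r P2 + StabCat.alpha r P3 := by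
  have := Fga.IntAdd.isNoetherian k H
  have hA1 := hA.1
  have hd : topologicalKrullDim H ≤ (r + 1 : ℕ) := hdim.le
  have hO1 : PicF.IsInvertible (Coh.structureModule H) := Groth.Agent.Fdesc.LocGen.isInvertible_structureModule
  have hcoh : ∀ {M : H.Modules}, PicF.IsInvertible M → Coh.IsCoh M := fun {M} hM =>
    Sga67.CohBasic.isCoh_of_iso (Ega2.Tens.runit M) (isCoh_tens hM (CurvesC.UnitCoh.isCoh_unit H))
  have hsd : ∀ F : H.Modules, topologicalKrullDim (CohB1.support F) ≤ (r + 1 : ℕ) := fun F =>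
    (topologicalKrullDim_subspace_le _ _).trans hd
  have hLL : PicF.IsInvertible (CohB1.tensorMod L L) := Fdesc.LocGen.isInvertible_tensorMod hL hL
  have hmono : Mono m := K704.InvHom.mono_of_ne_zero hLL hO1 m hm
  have hC : Coh.IsCoh (cokernel m) := Sga67.CohBasic.isCoh_cokernel _ (hcoh hLL).1 (hcoh hO1)
  have hS : (ShortComplex.mk m (cokernel.π m) (cokernel.condition _)).ShortExact :=
    { exact := ShortComplex.exact_cokernel _
      mono_f := hmono
      epi_g := inferInstanceAs (Epi (cokernel.π m)) }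
  have e1 := alpha_sub_tensor k (r + 1) hd hA1 (hcoh hG) (hsd G) hL
  have e2 := alpha_sub_tensor k (r + 1) hd hA1 (hcoh hO1) (hsd _) hLL
  rw [inter_unit k (r + 1) hd _ hd hG] at e1
  have e3 : (mk (CohB1.tensorMod L L) hLL)⁻¹ = (mk L hL)⁻¹ * (mk L hL)⁻¹ := by
    rw [← mk_mul_mk hL hL, mul_inv]
  rw [e3, inter_cons_mul k H (r + 1) hd _ (hcoh hO1) _ _ _ (hsd _)] at e2
  rw [hp_iso k hA1 (hcoh hLL) (Ega2.Tens.runit (CohB1.tensorMod L L)).symm] at e2
  have e4 := hp_add k hA1 hS (hcoh hLL) (hcoh hO1) hC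
  have e5 : hp k A (CohB1.tensorMod G L) = hp k A (CohB1.tensorMod L G) :=
    hp_iso k hA1 (isCoh_tens hL (hcoh hG)) (Ega2.Tens.swap L G)
  rw [eq_hp k h1, eq_hp k h2, eq_hp k h3, e5]
  have e6 : alpha r (hp k A (Coh.structureModule H)) = alpha r (hp k A (CohB1.tensorMod L L)) + alpha r (hp k A (cokernel m)) := by
    have := congrArg (alpha r) e4
    rw [alpha_add] at this
    exact this
  push_cast at e2
  linarith

end K396.Taut
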