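import Groth.Agent.Fga.HodgePush
import Groth.Agent.Fga.IntAdd
import Groth.Agent.Fga.ChiBasic
import Groth.Agent.Fga.MultInt
import Groth.Agent.S0031
import Groth.Agent.S0036
import Groth.Agent.S0927
import Groth.Agent.S1525
import Groth.Agent.Vancyc.H175.FibSupp
import Groth.Agent.Ega3B.RpushAbCmp
import Groth.Agent.CurvesC.UnitCoh
import Groth.Agent.CycB.PushStalk
import Groth.Agent.CharCyc.K716.Td
import Groth.Agent.Vanish.K909.DevNonneg
import Groth.Agent.TautSh.K396.AlphaSq

/-!
# Intersection numbers of pulled back classes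

* `inter_pull_sum`: `(g^*c · F) = Σ (-1)^i (c · R^i g_* F)`;
* `inter_pull_eq_zero`: it vanishes if `dim g(Z) < r`;
* `pos_of_genFinite`: `(g^*M)^r > 0` on an integral `Z` of dimension `r` which is generically finite over its image, `M` ample;
* `length_formula`: the length formula for additive functions;
* `nonneg_mix`: mixed numbers of the pull-back of an ample class and an ample class are non-negative.
-/

set_option autoImplicit false
universe u
open CategoryTheory CategoryTheory.Limits AlgebraicGeometry TopologicalSpace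

namespace K396.Push

open Groth.Agent Groth.Agent.Ega2 Groth.Agent.Fga.PicMon Groth.Agent.Fga.HodgePush Groth.Agent.Grpsch.PicGrp
open K909.InterML K716.Td

section sum

variable (k : Type u) [Field k] {X Z : Scheme.{u}} [X.Over (Spec (CommRingCat.of k))] [Z.Over (Spec (CommRingCat.of k))]
  [IsProper (X ↘ (Spec (CommRingCat.of k)))] [IsProper (Z ↘ (Spec (CommRingCat.of k)))]
  (g : Z ⟶ X) (hg : g ≫ (X ↘ (Spec (CommRingCat.of k))) = Z ↘ (Spec (CommRingCat.of k)))

include hg

theorem euler_twist [HasInjectiveResolutions Z.Modules] {N : X.Modules} (hN : PicF.IsInvertible N)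
    {F : Z.Modules} (hF : Coh.IsCoh F) :
    Curv2.euler k Z (CohB1.tensorMod ((Scheme.Modules.pullback g).obj N) F) =
      ∑ᶠ i : ℕ, (-1 : ℤ) ^ i * Curv2.euler k X (CohB1.tensorMod N ((Coh.Rpush g i).obj F)) := by
  have hinv : PicF.IsInvertible ((Scheme.Modules.pullback g).obj N) := Fdesc.LocGen.isInvertible_pullback g hN
  rw [S1525.result k X Z g hg _ (K396.Taut.isCoh_tens hinv hF)]
  refine finsum_congr fun i => ?_
  congr 1
  obtain ⟨e⟩ := S0927.result g F N (QCohLocal.isFinLocFree_of_rank (QCohLocal.isFinLocFreeOfRank_one_iff.mpr hN)) i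
  exact euler_congr k X e.symm

omit hg in
theorem isProper_hom (hg : g ≫ (X ↘ (Spec (CommRingCat.of k))) = Z ↘ (Spec (CommRingCat.of k))) : IsProper g := by
  have : IsProper (g ≫ (X ↘ (Spec (CommRingCat.of k)))) := hg ▸ inferInstance
  exact IsProper.of_comp g (X ↘ (Spec (CommRingCat.of k)))

theorem intNum_pull_sum (d e : ℕ) (hd : topologicalKrullDim X ≤ d) (he : topologicalKrullDim Z ≤ e)
    [HasInjectiveResolutions Z.Modules] {r : ℕ} (M : Fin r → X.Modules) (hM : ∀ i, PicF.IsInvertible (M i))
    {F : Z.Modules} (hF : Coh.IsCoh F) :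
    ∃ n : ℕ, FGA.intNum k Z e (fun i => (Scheme.Modules.pullback g).obj (M i)) F =
      ∑ i ∈ Finset.range (n + 1), (-1 : ℤ) ^ i * FGA.intNum k X d M ((Coh.Rpush g i).obj F) := by
  have nX : IsNoetherian X := Fga.IntAdd.isNoetherian k X
  have nZ : IsNoetherian Z := Fga.IntAdd.isNoetherian k Z
  have hgp : IsProper g := isProper_hom k g hg
  obtain ⟨n, hn⟩ := S0031.result g
  have hn' : ∀ i, n ≤ i → IsZero ((Coh.Rpush g i).obj F) := fun i hi =>
    (Ega3B.RpushAbCmp.isZero_RpushAb_iff g _ i).mp (hn _ hF.1 i hi)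
  refine ⟨n, ?_⟩
  unfold FGA.intNum
  simp only [Finset.mul_sum]
  rw [Finset.sum_comm]
  refine Finset.sum_congr rfl fun I _ => ?_
  obtain ⟨e1⟩ := nonempty_pull_word g M hM I
  have hinv := isInvertible_word M hM I
  rw [Fga.IntAdd.eulerCharLE_eq k Z e he,
    euler_congr k Z (Tens.mapTIso e1.symm (Iso.refl _)),
    euler_twist k g hg hinv hF, finsum_eq_sum_of_support_subset (s := Finset.range (n + 1)), Finset.mul_sum]
  · refine Finset.sum_congr rfl fun i _ => ?_
    rw [Fga.IntAdd.eulerCharLE_eq k X d hd]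
    ring
  · intro i hi
    simp only [Function.mem_support] at hi
    simp only [Finset.coe_range, Set.mem_Iio]
    by_contra hlt
    refine hi ?_
    have h0 : IsZero (CohB1.tensorMod (word M I) ((Coh.Rpush g i).obj F)) :=
      (DCoh.tensorBi.obj (word M I)).map_isZero (hn' i (by omega))
    rw [← Fga.IntAdd.eulerCharLE_eq k X d hd, Fga.ChiBasic.chi_isZero (Fga.IntAdd.isAdd_euler k X d hd) h0, mul_zero]

/-- `(g^*c · F) = Σ (-1)^i (c · R^i g_* F)`. -/
theorem inter_pull_sum (d e : ℕ) (hd : topologicalKrullDim X ≤ d) (he : topologicalKrullDim Z ≤ e)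
    [HasInjectiveResolutions Z.Modules] {r : ℕ} (c : Fin r → Pic X) {F : Z.Modules} (hF : Coh.IsCoh F) :
    ∃ n : ℕ, inter k Z e F (fun i => pull g (c i)) =
      ∑ i ∈ Finset.range (n + 1), (-1 : ℤ) ^ i * inter k X d ((Coh.Rpush g i).obj F) c := by
  obtain ⟨N, hN, h⟩ := Pic13.H970.IntForm.exists_rep X (fun i => (c i)⁻¹)
  obtain ⟨n, hn⟩ := intNum_pull_sum k g hg d e hd he N hN hF
  refine ⟨n, ?_⟩
  have h1 : ∀ G : X.Modules, inter k X d G c = FGA.intNum k X d N G := by
    intro G
    unfold inter
    rw [h, Pic13.H970.IntForm.intNum_eq k X d G N hN]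
  have h2 : inter k Z e F (fun i => pull g (c i)) =
      FGA.intNum k Z e (fun i => (Scheme.Modules.pullback g).obj (N i)) F := by
    unfold inter
    rw [Pic13.H970.IntForm.intNum_eq k Z e F _ (fun i => Fdesc.LocGen.isInvertible_pullback g (hN i))]
    congr 1
    funext i
    rw [← pull_mk g (hN i), ← map_inv]
    exact congrArg (pull g) (congrFun h i)
  rw [h2, hn]
  exact Finset.sum_congr rfl fun i _ => by rw [h1]

/-- Intersection numbers of more than `dim X` classes pulled back from `X` vanish. -/
theorem inter_pull_eq_zero_of_dim (e : ℕ) (he : topologicalKrullDim Z ≤ e) {r : ℕ} (c : Fin r → Pic X)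
    {F : Z.Modules} (hF : Coh.IsCoh F) (hr : topologicalKrullDim X < r) :
    inter k Z e F (fun i => pull g (c i)) = 0 := by
  have nX : IsNoetherian X := Fga.IntAdd.isNoetherian k X
  have nZ : IsNoetherian Z := Fga.IntAdd.isNoetherian k Z
  have hgp : IsProper g := isProper_hom k g hg
  have := Dcoh.DerSch.hasInjectiveResolutions Z
  obtain ⟨n, hn⟩ := inter_pull_sum k g hg r e hr.le he c hF
  rw [hn]
  refine Finset.sum_eq_zero fun i _ => ?_
  rw [inter_eq_zero k X r hr.le _ (S0036.result g _ hF i) c
    (lt_of_le_of_lt (topologicalKrullDim_subspace_le _ _) hr), mul_zero]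

/-- Intersection numbers of more than `dim g(Z)` pulled back classes vanish. -/
theorem inter_pull_eq_zero (e : ℕ) (he : topologicalKrullDim Z ≤ e) {r : ℕ} (c : Fin r → Pic X)
    {F : Z.Modules} (hF : Coh.IsCoh F) (hr : topologicalKrullDim (closure (Set.range g)) < r) :
    inter k Z e F (fun i => pull g (c i)) = 0 := by
  have nX : IsNoetherian X := Fga.IntAdd.isNoetherian k X
  have nZ : IsNoetherian Z := Fga.IntAdd.isNoetherian k Z
  have hgp : IsProper g := isProper_hom k g hg
  letI : g.image.Over (Spec (CommRingCat.of k)) := ⟨g.imageι ≫ (X ↘ Spec (CommRingCat.of k))⟩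
  have hi : g.imageι ≫ (X ↘ Spec (CommRingCat.of k)) = g.image ↘ Spec (CommRingCat.of k) := rfl
  haveI : IsProper (g.image ↘ Spec (CommRingCat.of k)) := by rw [← hi]; infer_instance
  have h1 : g.toImage ≫ (g.image ↘ Spec (CommRingCat.of k)) = Z ↘ Spec (CommRingCat.of k) := by
    rw [← hi, ← Category.assoc, Scheme.Hom.toImage_imageι, hg]
  have h2 : topologicalKrullDim g.image < r := by
    have h3 : Set.range g.imageι = closure (Set.range g) := by
      rw [← Scheme.Hom.support_ker]
      exact Scheme.IdealSheafData.range_subschemeι _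
    rw [← h3] at hr
    have h4 := (g.imageι.isClosedEmbedding.isEmbedding.toHomeomorph).isHomeomorph.topologicalKrullDim_eq
    rwa [h4]
  have h5 := inter_pull_eq_zero_of_dim k g.toImage h1 e he (fun i => pull g.imageι (c i)) hF h2
  have h6 : (fun i => pull g (c i)) = fun i => pull g.toImage (pull g.imageι (c i)) := by
    funext i
    rw [← pull_comp, Scheme.Hom.toImage_imageι]
  rw [h6]
  exact h5

end sum

section pos

variable (k : Type u) [Field k] {X Z : Scheme.{u}} [X.Over (Spec (CommRingCat.of k))] [Z.Over (Spec (CommRingCat.of k))]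
  [IsProper (X ↘ (Spec (CommRingCat.of k)))] [IsProper (Z ↘ (Spec (CommRingCat.of k)))]
  (g : Z ⟶ X) (hg : g ≫ (X ↘ (Spec (CommRingCat.of k))) = Z ↘ (Spec (CommRingCat.of k)))

/-- The direct image of the structure sheaf is nonzero at all image points. -/
theorem mem_support_push {X Z : Scheme.{u}} (g : Z ⟶ X) (z : Z) :
    g z ∈ CohB1.support ((Coh.push g).obj (Coh.structureModule Z)) := by
  intro h
  have h1 := CycB.PushStalk.pushStalk_germ g (Coh.structureModule Z) z ⊤ trivial (1 : Γ(Z, ⊤))
  have h2 : ((Scheme.Modules.pushforward g).obj (Coh.structureModule Z)).presheaf.germ ⊤ (g z) trivial (1 : Γ(Z, ⊤)) = 0 :=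
    @Subsingleton.elim _ h _ _
  rw [h2, map_zero] at h1
  have h3 := CycB.PushStalk.unitStalkLin_germ (X := Z) z ⊤ trivial 1
  have h4 : CycB.PushStalk.unitStalkLin Z z (Z.presheaf.germ ⊤ z trivial 1) = 0 := h3.trans h1.symm
  have h5 := (CycB.PushStalk.unitStalkLin_bijective z).1 (h4.trans (map_zero _).symm)
  rw [map_one] at h5
  exact one_ne_zero h5

theorem specializes_range {X Z : Scheme.{u}} (g : Z ⟶ X) [IsIntegral Z] {z : X} (hz : z ∈ Set.range g) :
    g (genericPoint Z) ⤳ z := by
  obtain ⟨w, rfl⟩ := hz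
  exact (genericPoint_specializes w).map g.continuous

theorem closure_range {X Z : Scheme.{u}} (g : Z ⟶ X) [IsIntegral Z] :
    closure (Set.range g) = closure {g (genericPoint Z)} := by
  apply Set.Subset.antisymm
  · refine closure_minimal (fun z hz => specializes_iff_mem_closure.mp (specializes_range g hz)) isClosed_closure
  · exact closure_mono (Set.singleton_subset_iff.mpr ⟨_, rfl⟩)

theorem fib_eq {X Z : Scheme.{u}} (g : Z ⟶ X) [IsIntegral Z] [LocallyOfFiniteType g] (h : td g (genericPoint Z) = 0) :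
    g.base ⁻¹' {g (genericPoint Z)} = {genericPoint Z} := by
  ext w
  simp only [Set.mem_preimage, Set.mem_singleton_iff]
  constructor
  · intro hw
    by_contra hne
    have := td_lt_of_specializes g (genericPoint_specializes w) (Ne.symm hne) hw.symm
    rw [h] at this
    exact Nat.not_lt_zero _ this
  · rintro rfl
    rfl

theorem td_generic {Z : Scheme.{u}} {k : Type u} [Field k] (q : Z ⟶ Spec (CommRingCat.of k)) [LocallyOfFiniteType q]
    [IsIntegral Z] {r : ℕ} (hr : topologicalKrullDim Z = r) : td q (genericPoint Z) = r := by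
  have h1 := dim_closure q (genericPoint Z)
  have h2 : closure {genericPoint Z} = (Set.univ : Set Z) := genericPoint_closure _
  rw [h2] at h1
  have h3 : topologicalKrullDim (Set.univ : Set Z) = topologicalKrullDim Z :=
    ((Homeomorph.Set.univ Z)).isHomeomorph.topologicalKrullDim_eq
  rw [h3, hr] at h1
  exact_mod_cast h1.symm

include hg in
/-- `(g^*M)^r > 0` for `g` generically finite onto its image. -/
theorem pos_of_genFinite [IsIntegral Z] (r : ℕ) (hr : topologicalKrullDim Z = r) (e : ℕ) (he : topologicalKrullDim Z ≤ e)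
    (h0 : td g (genericPoint Z) = 0) {M : X.Modules} (hM : CohB1.IsAmple M) :
    0 < inter k Z e (Coh.structureModule Z) (fun _ : Fin r => pull g (mk M hM.1)) := by
  have nX : IsNoetherian X := Fga.IntAdd.isNoetherian k X
  have nZ : IsNoetherian Z := Fga.IntAdd.isNoetherian k Z
  have hgp : IsProper g := isProper_hom k g hg
  have := Dcoh.DerSch.hasInjectiveResolutions Z
  have hcohZ : Coh.IsCoh (Coh.structureModule Z) := CurvesC.UnitCoh.isCoh_unit Z
  have htd : td (X ↘ Spec (CommRingCat.of k)) (g (genericPoint Z)) = r := by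
    have h1 := td_comp g (X ↘ Spec (CommRingCat.of k)) (genericPoint Z)
    rw [hg, td_generic _ hr, h0, add_zero] at h1
    exact h1.symm
  have hfin : (g.base ⁻¹' {g (genericPoint Z)}).Finite := by
    rw [fib_eq g h0]
    exact Set.finite_singleton _
  obtain ⟨d, hd⟩ := EtpbcA.CdFinDim.exists_dim_le (X ↘ Spec (CommRingCat.of k))
  obtain ⟨n, hn⟩ := inter_pull_sum k g hg d e hd he (fun _ : Fin r => mk M hM.1) hcohZ
  have hz : ∀ i : ℕ, inter k X d ((Coh.Rpush g (i + 1)).obj (Coh.structureModule Z)) (fun _ : Fin r => mk M hM.1) = 0 := by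
    intro i
    have hcoh := S0036.result g _ hcohZ (i + 1)
    refine inter_eq_zero k X d hd _ hcoh _ ?_
    have hT := Ega3B.Devissage.isClosed_support hcoh
    have hsub : ∀ z ∈ CohB1.support ((Coh.Rpush g (i + 1)).obj (Coh.structureModule Z)),
        td (X ↘ Spec (CommRingCat.of k)) z < r := by
      intro z hz
      have h1 : ¬ (g.base ⁻¹' {z}).Finite := fun h =>
        Vancyc.H175.FibSupp.not_mem_support_rpush g hcohZ (i + 1) (by omega) z h hz
      have h2 : z ∈ Set.range g := by
        by_contra hcon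
        refine h1 ?_
        have : g.base ⁻¹' {z} = ∅ := by
          ext w
          simp only [Set.mem_preimage, Set.mem_singleton_iff, Set.mem_empty_iff_false, iff_false]
          exact fun hw => hcon ⟨w, hw⟩
        rw [this]
        exact Set.finite_empty
      have h3 : g (genericPoint Z) ≠ z := by
        rintro rfl
        exact h1 hfin
      rw [← htd]
      exact td_lt_of_specializes _ (specializes_range g h2) h3 (Subsingleton.elim _ _)
    rcases r with _ | s
    · have hemp : CohB1.support ((Coh.Rpush g (i + 1)).obj (Coh.structureModule Z)) = ∅ := by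
        rw [Set.eq_empty_iff_forall_notMem]
        intro z hz
        exact absurd (hsub z hz) (Nat.not_lt_zero _)
      rw [K716.Td.eq_bot_iff.mpr (fun x hx => by rw [hemp] at hx; exact hx)]
      exact WithBot.bot_lt_coe _
    · have h4 := (dim_sub_le_iff (X ↘ Spec (CommRingCat.of k)) hT.isLocallyClosed s).mpr
        (fun z hz => Nat.lt_succ_iff.mp (hsub z hz))
      refine lt_of_le_of_lt h4 ?_
      exact_mod_cast Nat.lt_succ_self s
  rw [hn, Finset.sum_range_succ', Finset.sum_eq_zero (fun i _ => by rw [hz i, mul_zero]), zero_add, pow_zero, one_mul]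
  have e0 : (Coh.Rpush g 0).obj (Coh.structureModule Z) ≅ (Coh.push g).obj (Coh.structureModule Z) :=
    (Scheme.Modules.pushforward g).rightDerivedZeroIsoSelf.app _
  rw [inter_iso k X d _ e0]
  have hcp : Coh.IsCoh ((Coh.push g).obj (Coh.structureModule Z)) := isCoh_push g hcohZ
  have hsupp : CohB1.support ((Coh.push g).obj (Coh.structureModule Z)) = closure {g (genericPoint Z)} := by
    apply Set.Subset.antisymm
    · rw [← closure_range g]
      intro z hz
      by_contra hcon
      exact hz (CycB.PushStalk.subsingleton_stalk_push g _ z hcon)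
    · exact closure_minimal (Set.singleton_subset_iff.mpr (mem_support_push g _)) (Ega3B.Devissage.isClosed_support hcp)
  have hdim : topologicalKrullDim (CohB1.support ((Coh.push g).obj (Coh.structureModule Z))) = r := by
    rw [hsupp, dim_closure (X ↘ Spec (CommRingCat.of k)), htd]
  exact Pic13.H970.IntForm.I_pos k X d hd _ hcp (fun _ : Fin r => M) (fun _ => hM) (fun _ => hM.1) hdim

include hg in
/-- The dichotomy on an integral scheme of dimension `r`. -/
theorem dim_closure_range [IsIntegral Z] (r : ℕ) (hr : topologicalKrullDim Z = r) (h0 : td g (genericPoint Z) ≠ 0) :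
    topologicalKrullDim (closure (Set.range g)) < r := by
  have hgp : IsProper g := isProper_hom k g hg
  rw [closure_range g, dim_closure (X ↘ Spec (CommRingCat.of k))]
  have h1 := td_comp g (X ↘ Spec (CommRingCat.of k)) (genericPoint Z)
  rw [hg, td_generic _ hr] at h1
  have h2 : td (X ↘ Spec (CommRingCat.of k)) (g (genericPoint Z)) < r := by omega
  exact_mod_cast h2

include hg in
theorem nonneg_pull [IsIntegral Z] (r : ℕ) (hr : topologicalKrullDim Z = r) (e : ℕ) (he : topologicalKrullDim Z ≤ e)
    {M : X.Modules} (hM : CohB1.IsAmple M) :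
    0 ≤ inter k Z e (Coh.structureModule Z) (fun _ : Fin r => pull g (mk M hM.1)) := by
  have nZ : IsNoetherian Z := Fga.IntAdd.isNoetherian k Z
  by_cases h0 : td g (genericPoint Z) = 0
  · exact (pos_of_genFinite k g hg r hr e he h0 hM).le
  · exact (inter_pull_eq_zero k g hg e he (fun _ : Fin r => mk M hM.1) (CurvesC.UnitCoh.isCoh_unit Z)
      (dim_closure_range k g hg r hr h0)).ge

end pos

section formula

/-- **Length formula** for additive functions vanishing in dimension `< r`. -/
theorem length_formula {X : Scheme.{u}} [IsNoetherian X] (φ : X.Modules → ℤ) (hφ : Fga.ChiBasic.IsAdd φ) (r : ℕ)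
    (hvan : ∀ F : X.Modules, Coh.IsCoh F → topologicalKrullDim (CohB1.support F) < r → φ F = 0)
    (F : X.Modules) (hF : Coh.IsCoh F) (hr : topologicalKrullDim (CohB1.support F) ≤ r) :
    ∃ (S : Finset X) (n : X → ℕ) (Z : X → Scheme.{u}) (i : ∀ y, Z y ⟶ X) (_ : ∀ y, IsClosedImmersion (i y))
      (_ : ∀ y, IsIntegral (Z y)),
      (∀ y, y ∈ S ↔ y ∈ CohB1.support F ∧ topologicalKrullDim (closure {y} : Set X) = r) ∧ (∀ y ∈ S, 0 < n y) ∧
      (∀ y, i y (genericPoint (Z y)) = y) ∧ (∀ y, Set.range (i y) = closure {y}) ∧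
      φ F = ∑ y ∈ S, (n y : ℤ) * φ ((Coh.push (i y)).obj (Coh.structureModule (Z y))) := by
  classical
  have hTc := Ega3B.Devissage.isClosed_support hF
  choose Z i hi hZ hgen hrange using fun y : X => Fga.IntegralSub.exists_integral_closed y
  have hfin := K909.DevNonneg.finite_top (CohB1.support F) hTc r hr
  have h := K909.DevNonneg.length_sum φ hφ r hvan (CohB1.support F) hTc hr hfin.toFinset (fun y => by simp)
    (fun y => (Coh.push (i y)).obj (Coh.structureModule (Z y)))
    (fun y _ => by
      have := hi y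
      exact CycB.ClosSheaf.isCoh_push_structureModule (i y))
    (fun y _ => by
      have := hi y
      rw [← hrange y]
      exact CohqB.DevSimple.support_push_subset_range (i y) _)
    (fun y _ => by
      have := hi y
      have := hZ y
      have hne : Nonempty ((⊤ : (Z y).Opens) : Scheme.{u}) := ⟨⟨genericPoint (Z y), trivial⟩⟩
      have h := CohqB.DevSimple.isSimpleModule_stalk_push (i y) (Coh.structureModule (Z y)) ⊤
        ⟨Scheme.Modules.restrictUnitIso _⟩
      rw [hgen y] at h
      exact h) F hF subset_rfl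
  refine ⟨hfin.toFinset, fun y => (Fga.MultForm.len F y).toNat, Z, i, hi, hZ, fun y => by simp, ?_, hgen, hrange, h.2⟩
  intro y hy
  have h1 := h.1 y hy
  have hy' : y ∈ CohB1.support F := ((Set.Finite.mem_toFinset hfin).mp hy).1
  rw [Nat.pos_iff_ne_zero, Ne, ENat.toNat_eq_zero]
  rintro (h2 | h2)
  · exact hy' (Module.length_eq_zero_iff.mp h2)
  · exact h1 h2

end formula

section push

variable (k : Type u) [Field k] {X Z : Scheme.{u}} [X.Over (Spec (CommRingCat.of k))]
  [Z.Over (Spec (CommRingCat.of k))] (i : Z ⟶ X) [IsClosedImmersion i]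

/-- Projection formula for a closed immersion. -/
theorem inter_push (hi : i ≫ (X ↘ Spec (CommRingCat.of k)) = Z ↘ Spec (CommRingCat.of k)) (d : ℕ) {r : ℕ}
    (c : Fin r → Pic X) (G : Z.Modules) :
    inter k X d ((Coh.push i).obj G) c = inter k Z d G (fun j => pull i (c j)) := by
  obtain ⟨M, hM, h⟩ := Pic13.H970.IntForm.exists_rep X (fun i => (c i)⁻¹)
  unfold inter
  rw [h, ← Pic13.H970.IntForm.intNum_eq k X d _ M hM, Fga.MultInt.intNum_push k i hi d M hM G,
    Pic13.H970.IntForm.intNum_eq k Z d _ _ (fun j => Fdesc.LocGen.isInvertible_pullback i (hM j))]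
  congr 1
  funext j
  rw [← pull_mk i (hM j), ← map_inv]
  exact congrArg (pull i) (congrFun h j).symm

omit [X.Over (Spec (CommRingCat.of k))] [Z.Over (Spec (CommRingCat.of k))] in
theorem dim_le_of_closed {X Z : Scheme.{u}} (i : Z ⟶ X) [IsClosedImmersion i] :
    topologicalKrullDim Z ≤ topologicalKrullDim X :=
  i.isClosedEmbedding.isInducing.topologicalKrullDim_le

end push

section mix

variable (k : Type u) [Field k] {X Z : Scheme.{u}} [X.Over (Spec (CommRingCat.of k))] [Z.Over (Spec (CommRingCat.of k))]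
  [IsProper (X ↘ (Spec (CommRingCat.of k)))] [IsProper (Z ↘ (Spec (CommRingCat.of k)))]
  (g : Z ⟶ X) (hg : g ≫ (X ↘ (Spec (CommRingCat.of k))) = Z ↘ (Spec (CommRingCat.of k)))

include hg in
/-- The length formula for `(g^*M)^r`, with the signs of its terms. -/
theorem top_formula {M : X.Modules} (hM : CohB1.IsAmple M) (e : ℕ) (he : topologicalKrullDim Z ≤ e) (r : ℕ)
    (F : Z.Modules) (hF : Coh.IsCoh F) (hr : topologicalKrullDim (CohB1.support F) ≤ r) :
    ∃ (S : Finset Z) (n : Z → ℕ) (b : Z → ℤ),
      (∀ y, y ∈ S ↔ y ∈ CohB1.support F ∧ topologicalKrullDim (closure {y} : Set Z) = r) ∧ (∀ y ∈ S, 0 < n y) ∧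
      (∀ y ∈ S, 0 ≤ b y) ∧ (∀ y ∈ S, td g y = 0 → 0 < b y) ∧
      (∀ y ∈ S, topologicalKrullDim (closure (g '' closure {y})) < r → b y = 0) ∧
      inter k Z e F (fun _ : Fin r => pull g (mk M hM.1)) = ∑ y ∈ S, (n y : ℤ) * b y := by
  classical
  have nZ : IsNoetherian Z := Fga.IntAdd.isNoetherian k Z
  obtain ⟨S, n, W, i, hi, hW, hS, hn, hgen, hrange, hsum⟩ := length_formula
    (fun F => inter k Z e F (fun _ : Fin r => pull g (mk M hM.1)))
    (isAdd_inter k Z e he _) r (fun F hF hlt => inter_eq_zero k Z e he F hF _ hlt) F hF hr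
  refine ⟨S, n, fun y => inter k Z e ((Coh.push (i y)).obj (Coh.structureModule (W y)))
    (fun _ : Fin r => pull g (mk M hM.1)), hS, hn, ?_, ?_, ?_, hsum⟩
  all_goals
    intro y hy
    have := hi y
    have := hW y
    letI : (W y).Over (Spec (CommRingCat.of k)) := ⟨i y ≫ (Z ↘ Spec (CommRingCat.of k))⟩
    have hiy : i y ≫ (Z ↘ Spec (CommRingCat.of k)) = W y ↘ Spec (CommRingCat.of k) := rfl
    haveI : IsProper (W y ↘ Spec (CommRingCat.of k)) := by rw [← hiy]; infer_instance
    have nW : IsNoetherian (W y) := Fga.IntAdd.isNoetherian k (W y)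
    have hcomp : (i y ≫ g) ≫ (X ↘ Spec (CommRingCat.of k)) = W y ↘ Spec (CommRingCat.of k) := by
      rw [Category.assoc, hg, hiy]
    have e1 : (fun _ : Fin r => pull (i y) (pull g (mk M hM.1))) = fun _ : Fin r => pull (i y ≫ g) (mk M hM.1) := by
      funext _
      rw [pull_comp]
    have hdim : topologicalKrullDim (W y) = r := by
      rw [← ((hS y).mp hy).2, ← hrange y]
      exact (IsHomeomorph.topologicalKrullDim_eq _ (i y).isClosedEmbedding.isEmbedding.toHomeomorph.isHomeomorph)
    have heW : topologicalKrullDim (W y) ≤ e := (dim_le_of_closed (i y)).trans he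
    dsimp only
    rw [inter_push k (i y) hiy, e1]
  · exact nonneg_pull k (i y ≫ g) hcomp r hdim e heW hM
  · intro h0
    have hp := isProper_hom k g hg
    refine pos_of_genFinite k (i y ≫ g) hcomp r hdim e heW ?_ hM
    rw [td_comp, hgen y, h0, td_of_isPreimmersion]
  · intro hlt
    refine inter_pull_eq_zero k (i y ≫ g) hcomp e heW (fun _ : Fin r => mk M hM.1) (CurvesC.UnitCoh.isCoh_unit _) ?_
    refine lt_of_le_of_lt (Fga.DimLt.topologicalKrullDim_mono (closure_mono ?_)) hlt
    rintro _ ⟨w, rfl⟩
    exact ⟨i y w, by rw [← hrange y]; exact ⟨w, rfl⟩, rfl⟩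

include hg in
/-- Mixed numbers of the pull-back of an ample class and an ample class are non-negative. -/
theorem nonneg_mix {M : X.Modules} (hM : CohB1.IsAmple M) {A : Z.Modules} (hA : CohB1.IsAmple A)
    (e : ℕ) (he : topologicalKrullDim Z ≤ e) (r : ℕ) :
    ∀ (F : Z.Modules) (_ : Coh.IsCoh F) (_ : topologicalKrullDim (CohB1.support F) ≤ r) (c : Fin r → Pic Z)
      (_ : ∀ j, c j = pull g (mk M hM.1) ∨ c j = mk A hA.1), 0 ≤ inter k Z e F c := by
  induction r with
  | zero =>
    intro F hF hr c hc
    obtain ⟨S, n, b, -, -, hb, -, -, hsum⟩ := top_formula k g hg hM e he 0 F hF hr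
    have : c = fun _ : Fin 0 => pull g (mk M hM.1) := by
      funext j
      exact j.elim0
    rw [this, hsum]
    exact Finset.sum_nonneg fun y hy => mul_nonneg (Int.natCast_nonneg _) (hb y hy)
  | succ r ih =>
    intro F hF hr c hc
    by_cases hall : ∀ j, c j = pull g (mk M hM.1)
    · obtain ⟨S, n, b, -, -, hb, -, -, hsum⟩ := top_formula k g hg hM e he (r + 1) F hF hr
      have : c = fun _ : Fin (r + 1) => pull g (mk M hM.1) := funext hall
      rw [this, hsum]
      exact Finset.sum_nonneg fun y hy => mul_nonneg (Int.natCast_nonneg _) (hb y hy)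
    · push Not at hall
      obtain ⟨j, hj⟩ := hall
      have hjA : c j = mk A hA.1 := (hc j).resolve_left hj
      obtain ⟨c', hc', h⟩ := exists_front' k Z e F c j
      rw [h, hjA]
      rcases hr.lt_or_eq with hlt | heq
      · exact (inter_eq_zero k Z e he F hF _ hlt).ge
      · obtain ⟨n, G, hG, hGdim, hcut⟩ := exists_cut k Z e he F hF A hA heq
        have h1 := ih G hG hGdim.le c' (fun l => by
          obtain ⟨l', -, hl⟩ := hc' l
          rw [hl]
          exact hc l')
        rw [← hcut c'] at h1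
        have h2 : (0 : ℤ) < (n : ℤ) + 1 := by positivity
        exact nonneg_of_mul_nonneg_right h1 h2

end mix

end K396.Push
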